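import Mathlib.Algebra.Category.ModuleCat.Basic
import Mathlib.Algebra.Category.ModuleCat.Abelian
import Mathlib.Algebra.Homology.HomologicalComplex
import Mathlib.Algebra.Homology.Homotopy
import Mathlib.Algebra.Homology.HomotopyCategory.MappingCone
import Mathlib.Algebra.Homology.HomotopyCategory.Pretriangulated
import Mathlib.LinearAlgebra.Determinant
import Mathlib.LinearAlgebra.Matrix.SchurComplement
import Mathlib.LinearAlgebra.TensorProduct.Basis
import Mathlib.RingTheory.TensorProduct.Free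
import Mathlib.RingTheory.TensorProduct.Finite
import Mathlib.Algebra.BigOperators.Finprod
import Mathlib.Data.Int.Interval
import Groth.Prelude.Def_SGA4hB

/-!
# Calculus of `det (1 - u t)` and vanishing for contractible complexes
-/

universe u

open CategoryTheory TensorProduct Polynomial SGA4h

namespace Groth.Agent.CharSer12

variable {A : Type u} [CommRing A]

/-- Finite free, as a bundled predicate. -/
def FF (M : ModuleCat.{u} A) : Prop := Module.Finite A M ∧ Module.Free A M

section general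

variable {R : Type*} [CommRing R] {P Q : Type*} [AddCommGroup P] [Module R P] [AddCommGroup Q]
  [Module R Q]

lemma det_one_sub_comp_comm {ι κ : Type*} [Fintype ι] [DecidableEq ι] [Fintype κ] [DecidableEq κ]
    (bP : Module.Basis ι R P) (bQ : Module.Basis κ R Q) (r : R) (f : P →ₗ[R] Q) (g : Q →ₗ[R] P) :
    LinearMap.det (LinearMap.id - r • (g ∘ₗ f)) = LinearMap.det (LinearMap.id - r • (f ∘ₗ g)) := by
  rw [← LinearMap.det_toMatrix bP, ← LinearMap.det_toMatrix bQ, map_sub, map_sub, map_smul,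
    map_smul, LinearMap.toMatrix_id, LinearMap.toMatrix_id, LinearMap.toMatrix_comp bP bQ bP,
    LinearMap.toMatrix_comp bQ bP bQ, ← Matrix.smul_mul, Matrix.det_one_sub_mul_comm,
    Matrix.mul_smul]

lemma det_one_sub_add (r : R) (f g : P →ₗ[R] P) (h : g ∘ₗ f = 0) :
    LinearMap.det (LinearMap.id - r • (f + g)) =
      LinearMap.det (LinearMap.id - r • f) * LinearMap.det (LinearMap.id - r • g) := by
  rw [mul_comm, ← LinearMap.det_comp]
  congr 1
  ext x
  have h1 : g (f x) = 0 := LinearMap.congr_fun h x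
  simp only [LinearMap.comp_apply, LinearMap.sub_apply, LinearMap.smul_apply, LinearMap.id_apply,
    LinearMap.add_apply, map_sub, map_smul, h1, smul_zero, smul_add]
  abel_nf

end general

lemma detOneSub_zero (M : ModuleCat.{u} A) : detOneSub M (0 : M ⟶ M) = 1 := by
  rw [detOneSub, ModuleCat.hom_zero, LinearMap.baseChange_zero, smul_zero]
  exact (congrArg LinearMap.det (sub_zero _)).trans LinearMap.det_id

lemma detOneSub_comp_comm {M N : ModuleCat.{u} A} (hM : FF M) (hN : FF N)
    (f : M ⟶ N) (g : N ⟶ M) : detOneSub M (f ≫ g) = detOneSub N (g ≫ f) := by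
  classical
  obtain ⟨hM1, hM2⟩ := hM
  obtain ⟨hN1, hN2⟩ := hN
  unfold detOneSub
  rw [ModuleCat.hom_comp, ModuleCat.hom_comp, LinearMap.baseChange_comp, LinearMap.baseChange_comp]
  exact det_one_sub_comp_comm ((Module.Free.chooseBasis A M).baseChange A[X])
    ((Module.Free.chooseBasis A N).baseChange A[X]) X _ _

lemma detOneSub_add {M : ModuleCat.{u} A} (f g : M ⟶ M) (h : f ≫ g = 0) :
    detOneSub M (f + g) = detOneSub M f * detOneSub M g := by
  unfold detOneSub
  rw [ModuleCat.hom_add, LinearMap.baseChange_add]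
  refine det_one_sub_add X _ _ ?_
  rw [← LinearMap.baseChange_comp, ← ModuleCat.hom_comp, h, ModuleCat.hom_zero,
    LinearMap.baseChange_zero]

lemma detOneSub_of_isZero {M : ModuleCat.{u} A} (hM : Limits.IsZero M) (f : M ⟶ M) :
    detOneSub M f = 1 := by
  rw [hM.eq_of_src f 0, detOneSub_zero]

/-- The pairing of `ℤ`-indexed products along even and odd integers. -/
lemma finprod_even_eq_odd {R : Type*} [CommMonoid R] (p d : ℤ → R) (a b : ℤ)
    (hp : ∀ i, i < a ∨ b < i → p i = 1) (hd : ∀ i, d (i + 1) = p (i + 1) * p i) :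
    (∏ᶠ i : {i : ℤ // Even i}, d i.1) = ∏ᶠ i : {i : ℤ // Odd i}, d i.1 := by
  have hd' : ∀ i, d i = p i * p (i - 1) := fun i => by simpa using hd (i - 1)
  have fin : ∀ (P : ℤ → Prop) (k : ℤ),
      (Function.mulSupport fun i : {i : ℤ // P i} => p (i.1 - k)).Finite := fun P k => by
    refine ((Set.finite_Icc (a + k) (b + k)).preimage
      Subtype.val_injective.injOn).subset fun i hi => ?_
    by_contra hc
    exact hi (hp _ (by simp only [Set.mem_preimage, Set.mem_Icc] at hc; omega))
  have fin0 : ∀ (P : ℤ → Prop),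
      (Function.mulSupport fun i : {i : ℤ // P i} => p i.1).Finite := fun P => by
    simpa using fin P 0
  let e1 : {i : ℤ // Even i} → {i : ℤ // Odd i} := fun i => ⟨i.1 - 1, i.2.sub_odd odd_one⟩
  let e2 : {i : ℤ // Odd i} → {i : ℤ // Even i} := fun i => ⟨i.1 - 1, i.2.sub_odd odd_one⟩
  have he1 : Function.Bijective e1 :=
    ⟨fun x y h => by simpa [e1, Subtype.ext_iff] using h,
      fun y => ⟨⟨y.1 + 1, y.2.add_odd odd_one⟩, by simp [e1]⟩⟩
  have he2 : Function.Bijective e2 :=
    ⟨fun x y h => by simpa [e2, Subtype.ext_iff] using h,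
      fun y => ⟨⟨y.1 + 1, y.2.add_one⟩, by simp [e2]⟩⟩
  rw [finprod_congr (fun i : {i : ℤ // Even i} => hd' i.1),
    finprod_congr (fun i : {i : ℤ // Odd i} => hd' i.1),
    finprod_mul_distrib (fin0 _) (fin _ 1), finprod_mul_distrib (fin0 _) (fin _ 1),
    finprod_eq_of_bijective (g := fun i : {i : ℤ // Odd i} => p i.1) e1 he1 (fun _ => rfl),
    finprod_eq_of_bijective (f := fun i : {i : ℤ // Odd i} => p (i.1 - 1))
      (g := fun i : {i : ℤ // Even i} => p i.1) e2 he2 (fun _ => rfl), mul_comm]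

/-- A contractible bounded complex of finite free modules has trivial characteristic series. -/
theorem detEven_eq_detOdd_of_contractible (C : CochainComplex (ModuleCat.{u} A) ℤ) (a b : ℤ)
    (hC : ∀ i, FF (C.X i)) (hb : ∀ i, i < a ∨ b < i → Limits.IsZero (C.X i))
    (w : C ⟶ C) (h : Homotopy (𝟙 C) 0) : detEven C w = detOdd C w := by
  refine finprod_even_eq_odd
    (fun i => detOneSub (C.X i) (w.f i ≫ C.d i (i + 1) ≫ h.hom (i + 1) i)) (fun i => detOneSub (C.X i) (w.f i)) a b
    (fun i hi => detOneSub_of_isZero (hb i hi) _) (fun i => ?_)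
  have hid : 𝟙 (C.X (i + 1)) =
      C.d (i + 1) (i + 1 + 1) ≫ h.hom (i + 1 + 1) (i + 1) + h.hom (i + 1) i ≫ C.d i (i + 1) := by
    have h1 := h.comm (i + 1)
    rw [dNext_eq h.hom (show (ComplexShape.up ℤ).Rel (i + 1) (i + 1 + 1) from rfl),
      prevD_eq h.hom (show (ComplexShape.up ℤ).Rel i (i + 1) from rfl)] at h1
    simpa using h1
  have hw : w.f (i + 1) = w.f (i + 1) ≫ h.hom (i + 1) i ≫ C.d i (i + 1) +
      w.f (i + 1) ≫ C.d (i + 1) (i + 1 + 1) ≫ h.hom (i + 1 + 1) (i + 1) := by
    conv_lhs => rw [← Category.comp_id (w.f (i + 1)), hid, Preadditive.comp_add, add_comm]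
  have hz : (w.f (i + 1) ≫ h.hom (i + 1) i ≫ C.d i (i + 1)) ≫
      (w.f (i + 1) ≫ C.d (i + 1) (i + 1 + 1) ≫ h.hom (i + 1 + 1) (i + 1)) = 0 := by
    simp only [Category.assoc, HomologicalComplex.Hom.comm_assoc,
      HomologicalComplex.d_comp_d_assoc, Limits.zero_comp, Limits.comp_zero]
  conv_lhs => rw [hw, detOneSub_add _ _ hz, mul_comm]
  congr 1
  rw [← Category.assoc, detOneSub_comp_comm (hC _) (hC _), ← Category.assoc,
    ← w.comm, Category.assoc]

end Groth.Agent.CharSer12
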