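import Mathlib.Algebra.Category.ModuleCat.Projective
import Mathlib.Algebra.Category.ModuleCat.Biproducts
import Mathlib.Algebra.Homology.DerivedCategory.KProjective
import Mathlib.RingTheory.Finiteness.Prod
import Mathlib.LinearAlgebra.FreeModule.Basic
import Groth.Agent.CharSer12.Calc

/-!
# The characteristic series of a cone, and invariance under derived isomorphisms
-/

universe u

open CategoryTheory Limits CochainComplex CochainComplex.HomComplex SGA4h

namespace Groth.Agent.CharSer12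

variable {A : Type u} [CommRing A] {K K' : CochainComplex (ModuleCat.{u} A) ℤ} {h : K ⟶ K'}

lemma cone_FF (hK : ∀ i, FF (K.X i)) (hK' : ∀ i, FF (K'.X i)) (n : ℤ) :
    FF ((mappingCone h).X n) := by
  obtain ⟨h1, h2⟩ := hK (n + 1)
  obtain ⟨h3, h4⟩ := hK' n
  let i1 := ((mappingCone.inl h).v (n + 1) n (by omega)).hom
  let i2 := ((mappingCone.inr h).f n).hom
  let p1 := ((mappingCone.fst h).1.v n (n + 1) rfl).hom
  let p2 := ((mappingCone.snd h).v n n (add_zero n)).hom
  have e11 : p1 ∘ₗ i1 = LinearMap.id :=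
    congrArg ModuleCat.Hom.hom (mappingCone.inl_v_fst_v h (n + 1) n rfl)
  have e12 : p2 ∘ₗ i1 = 0 :=
    congrArg ModuleCat.Hom.hom (mappingCone.inl_v_snd_v h (n + 1) n (by omega))
  have e21 : p1 ∘ₗ i2 = 0 :=
    congrArg ModuleCat.Hom.hom (mappingCone.inr_f_fst_v h n (n + 1) rfl)
  have e22 : p2 ∘ₗ i2 = LinearMap.id :=
    congrArg ModuleCat.Hom.hom (mappingCone.inr_f_snd_v h n)
  have eid : i1 ∘ₗ p1 + i2 ∘ₗ p2 = LinearMap.id :=
    congrArg ModuleCat.Hom.hom (mappingCone.id_X h n (n + 1) rfl)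
  let e : ((K.X (n + 1)) × (K'.X n)) ≃ₗ[A] (mappingCone h).X n :=
    LinearEquiv.ofLinear (i1.coprod i2) (p1.prod p2)
      (by rw [LinearMap.coprod_comp_prod, eid])
      (by rw [LinearMap.comp_coprod, LinearMap.prod_comp, LinearMap.prod_comp, e11, e12, e21, e22]
          ext x <;> simp)
  exact ⟨Module.Finite.equiv e, Module.Free.of_equiv e⟩

variable {u₀ : K ⟶ K} {u' : K' ⟶ K'}

lemma cone_det (hK : ∀ i, FF (K.X i)) (hK' : ∀ i, FF (K'.X i))
    (H : Homotopy (h ≫ u') (u₀ ≫ h)) (n : ℤ) :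
    detOneSub _ ((mappingCone.mapOfHomotopy H).f n) =
      detOneSub _ (u₀.f (n + 1)) * detOneSub _ (u'.f n) := by
  set w := (mappingCone.mapOfHomotopy H).f n with hw
  set i1 := (mappingCone.inl h).v (n + 1) n (by omega) with hi1
  set i2 := (mappingCone.inr h).f n with hi2
  set p1 := (mappingCone.fst h).1.v n (n + 1) rfl with hp1
  set p2 := (mappingCone.snd h).v n n (add_zero n) with hp2
  have e11 : i1 ≫ p1 = 𝟙 _ := mappingCone.inl_v_fst_v h (n + 1) n rfl
  have e21 : i2 ≫ p1 = 0 := mappingCone.inr_f_fst_v h n (n + 1) rfl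
  have e22 : i2 ≫ p2 = 𝟙 _ := mappingCone.inr_f_snd_v h n
  have eid : p1 ≫ i1 + p2 ≫ i2 = 𝟙 _ := mappingCone.id_X h n (n + 1) rfl
  have w2 : i2 ≫ w = u'.f n ≫ i2 := by
    simp [hw, hi2, mappingCone.mapOfHomotopy]
  have w1 : i1 ≫ w ≫ p1 = u₀.f (n + 1) := by
    rw [hw, hi1, hp1, mappingCone.mapOfHomotopy, mappingCone.inl_v_desc_f_assoc]
    simp [Cochain.add_v, Cochain.comp_zero_cochain_v, Cochain.zero_cochain_comp_v,
      Preadditive.add_comp]
  have hsplit : w = p2 ≫ i2 ≫ w + p1 ≫ i1 ≫ w := by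
    conv_lhs => rw [← Category.id_comp w, ← eid, Preadditive.add_comp, add_comm,
      Category.assoc, Category.assoc]
  have hz : (p2 ≫ i2 ≫ w) ≫ (p1 ≫ i1 ≫ w) = 0 := by
    rw [w2]
    simp only [Category.assoc]
    rw [reassoc_of% e21]
    simp
  conv_lhs => rw [hsplit]
  rw [detOneSub_add _ _ hz, mul_comm]
  congr 1
  · rw [detOneSub_comp_comm (cone_FF hK hK' n) (hK _), Category.assoc, w1]
  · rw [w2, detOneSub_comp_comm (cone_FF hK hK' n) (hK' _), Category.assoc, e22,
      Category.comp_id]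

/-- The finiteness of the support of the factors. -/
lemma fin_supp (C : CochainComplex (ModuleCat.{u} A) ℤ) (w : C ⟶ C) (a b : ℤ)
    [C.IsStrictlyGE a] [C.IsStrictlyLE b] (P : ℤ → Prop) (k : ℤ) :
    (Function.mulSupport fun i : {i : ℤ // P i} => detOneSub _ (w.f (i.1 + k))).Finite := by
  refine ((Set.finite_Icc (a - k) (b - k)).preimage
    Subtype.val_injective.injOn).subset fun i hi => ?_
  by_contra hc
  refine hi (detOneSub_of_isZero ?_ _)
  simp only [Set.mem_preimage, Set.mem_Icc] at hc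
  rcases lt_or_ge (i.1 + k) a with h1 | h1
  · exact C.isZero_of_isStrictlyGE a _ h1
  · exact C.isZero_of_isStrictlyLE b _ (by omega)

lemma fin_supp0 (C : CochainComplex (ModuleCat.{u} A) ℤ) (w : C ⟶ C) (a b : ℤ)
    [C.IsStrictlyGE a] [C.IsStrictlyLE b] (P : ℤ → Prop) :
    (Function.mulSupport fun i : {i : ℤ // P i} => detOneSub _ (w.f i.1)).Finite := by
  refine ((Set.finite_Icc a b).preimage
    Subtype.val_injective.injOn).subset fun i hi => ?_
  by_contra hc
  refine hi (detOneSub_of_isZero ?_ _)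
  simp only [Set.mem_preimage, Set.mem_Icc] at hc
  rcases lt_or_ge i.1 a with h1 | h1
  · exact C.isZero_of_isStrictlyGE a _ h1
  · exact C.isZero_of_isStrictlyLE b _ (by omega)

/-- Invariance along a quasi-isomorphism commuting with the endomorphisms up to homotopy. -/
theorem invariant_of_quasiIso (a b : ℤ) [K.IsStrictlyGE a] [K.IsStrictlyLE b]
    [K'.IsStrictlyGE a] [K'.IsStrictlyLE b] (hK : ∀ i, FF (K.X i)) (hK' : ∀ i, FF (K'.X i)) [QuasiIso h]
    (H : Homotopy (h ≫ u') (u₀ ≫ h)) :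
    detEven K u₀ * detOdd K' u' = detOdd K u₀ * detEven K' u' := by
  let C := mappingCone h
  have hC : ∀ i, FF (C.X i) := cone_FF hK hK'
  have hz : ∀ i, i < a - 1 ∨ b < i → IsZero (C.X i) := fun i hi => by
    rw [IsZero.iff_id_eq_zero, ← mappingCone.id_X h i (i + 1) rfl]
    have z1 : IsZero (K.X (i + 1)) := by
      rcases hi with h1 | h1
      · exact K.isZero_of_isStrictlyGE a _ (by omega)
      · exact K.isZero_of_isStrictlyLE b _ (by omega)
    have z2 : IsZero (K'.X i) := by
      rcases hi with h1 | h1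
      · exact K'.isZero_of_isStrictlyGE a _ (by omega)
      · exact K'.isZero_of_isStrictlyLE b _ (by omega)
    rw [z1.eq_of_tgt ((mappingCone.fst h).1.v i (i + 1) rfl) 0,
      z2.eq_of_tgt ((mappingCone.snd h).v i i (add_zero i)) 0, zero_comp, zero_comp, add_zero]
  haveI : C.IsStrictlyLE b := (isStrictlyLE_iff C b).mpr fun i hi => hz i (Or.inr hi)
  haveI : ∀ n, Projective (C.X n) := fun n => by
    haveI := (hC n).2
    exact ModuleCat.projective_of_free (Module.Free.chooseBasis A (C.X n))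
  haveI : C.IsKProjective := isKProjective_of_projective C b
  have hacyc : C.Acyclic := by
    rw [← HomotopyCategory.quotient_obj_mem_subcategoryAcyclic_iff_acyclic]
    refine ((HomotopyCategory.subcategoryAcyclic _).trW_iff_of_distinguished _
      (HomotopyCategory.mappingCone_triangleh_distinguished h)).mp ?_
    rw [← HomotopyCategory.quasiIso_eq_trW_subcategoryAcyclic]
    exact (HomotopyCategory.quotient_map_mem_quasiIso_iff h).mpr ((HomologicalComplex.mem_quasiIso_iff h).mpr inferInstance)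
  have key := detEven_eq_detOdd_of_contractible C (a - 1) b hC hz (mappingCone.mapOfHomotopy H)
    (IsKProjective.homotopyZero (𝟙 C) hacyc)
  have hd : ∀ n, detOneSub (C.X n) ((mappingCone.mapOfHomotopy H).f n) = _ := cone_det hK hK' H
  rw [show detEven C (mappingCone.mapOfHomotopy H) = _ from
      finprod_congr (fun i : {i : ℤ // Even i} => hd i.1),
    show detOdd C (mappingCone.mapOfHomotopy H) = _ from
      finprod_congr (fun i : {i : ℤ // Odd i} => hd i.1),
    finprod_mul_distrib (fin_supp K u₀ a b _ 1) (fin_supp0 K' u' a b Even),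
    finprod_mul_distrib (fin_supp K u₀ a b _ 1) (fin_supp0 K' u' a b Odd),
    finprod_eq_of_bijective (g := fun i : {i : ℤ // Odd i} => detOneSub _ (u₀.f i.1))
      (fun i : {i : ℤ // Even i} => ⟨i.1 + 1, i.2.add_one⟩)
      ⟨fun x y hxy => by simpa [Subtype.ext_iff] using hxy,
        fun y => ⟨⟨y.1 - 1, y.2.sub_odd odd_one⟩, by simp⟩⟩ (fun _ => rfl),
    finprod_eq_of_bijective (g := fun i : {i : ℤ // Even i} => detOneSub _ (u₀.f i.1))
      (fun i : {i : ℤ // Odd i} => ⟨i.1 + 1, i.2.add_odd odd_one⟩)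
      ⟨fun x y hxy => by simpa [Subtype.ext_iff] using hxy,
        fun y => ⟨⟨y.1 - 1, y.2.sub_odd odd_one⟩, by simp⟩⟩ (fun _ => rfl)] at key
  exact key.symm

end Groth.Agent.CharSer12
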